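import Groth.Agent.FormPunct.Model
import Groth.Agent.W7Exist.System

/-!
Systems of finite modules presenting a coherent formal module on a punctured spectrum.
-/

set_option autoImplicit false
set_option maxHeartbeats 1000000
set_option linter.style.haveILetI false
set_option backward.isDefEq.respectTransparency false
set_option backward.isDefEq.respectTransparency.types false

universe u

open CategoryTheory CategoryTheory.Limits AlgebraicGeometry TopologicalSpace Opposite
open Groth.Agent.PunctArt (RR)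
open Groth.Agent.FormAlg (H0 H0Map omegaHom omegaHom_natural isIso_omegaHom RR_map_smul)
open Groth.Agent.W7Exist (tn exists_desc)

noncomputable section

namespace Groth.Agent.FormPunct

variable {A : Type u} [CommRing A] [IsNoetherianRing A] {U : (Spec (CommRingCat.of A)).Opens}
  {I : Ideal A} {F : ℕᵒᵖ ⥤ (↑U : Scheme.{u}).Modules}

/-- Compatible finite models of the levels of a system. -/
theorem exists_models (hc : ∀ n, Coh.IsCoh (F.obj (op n))) :
    ∃ N : ∀ n, Submodule A (H0 (F.obj (op n))), (∀ n, (N n).FG) ∧ (∀ n, IsIso ((RR U).map (inc (N n)))) ∧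
      ∀ n, N (n + 1) ≤ (N n).comap (H0Map (tn F n)).hom := by
  choose K hKfg hKiso using fun n => exists_fg_model U (F.obj (op n)) (hc n)
  let N : ∀ n, Submodule A (H0 (F.obj (op n))) := fun n =>
    Nat.rec (motive := fun n => Submodule A (H0 (F.obj (op n)))) (K 0)
      (fun n a => K (n + 1) ⊓ a.comap (H0Map (tn F n)).hom) n
  refine ⟨N, fun n => ?_, fun n => ?_, fun n => inf_le_right⟩
  · cases n with
    | zero => exact hKfg 0
    | succ n =>
      haveI : Module.Finite A (K (n + 1)) := Module.Finite.iff_fg.2 (hKfg (n + 1))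
      haveI : IsNoetherian A (K (n + 1)) := isNoetherian_of_isNoetherianRing_of_finite A _
      have hle : N (n + 1) ≤ K (n + 1) := inf_le_left
      have := (IsNoetherian.noetherian ((N (n + 1)).comap (K (n + 1)).subtype)).map (K (n + 1)).subtype
      rwa [Submodule.map_comap_eq, Submodule.range_subtype, inf_eq_right.2 hle] at this
  · induction n with
    | zero => exact hKiso 0
    | succ n ih => exact isIso_inc_inf_comap U (H0Map (tn F n)) (K (n + 1)) (N n) (hKiso (n + 1)) ih

/-- The models present the system. -/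
theorem exists_presentation (hc : ∀ n, Coh.IsCoh (F.obj (op n))) :
    ∃ (M : ℕ → ModuleCat.{u} A) (g : ∀ n, M (n + 1) ⟶ M n) (c : ∀ n, (RR U).obj (M n) ≅ F.obj (op n))
      (j : ∀ n, M n ⟶ H0 (F.obj (op n))), (∀ n, Module.Finite A (M n)) ∧ (∀ n, Function.Injective (j n).hom) ∧
      ∀ n, (RR U).map (g n) ≫ (c n).hom = (c (n + 1)).hom ≫ tn F n := by
  obtain ⟨N, hfg, hiso, hle⟩ := exists_models hc
  have ho : ∀ n, IsIso (omegaHom (F.obj (op n))) := fun n => isIso_omegaHom (hc n).1
  have hi : ∀ n, IsIso ((RR U).map (inc (N n)) ≫ omegaHom (F.obj (op n))) := fun n =>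
    @IsIso.comp_isIso _ _ _ _ _ _ _ (hiso n) (ho n)
  let g : ∀ n, ModuleCat.of A (N (n + 1)) ⟶ ModuleCat.of A (N n) := fun n =>
    ModuleCat.ofHom ((H0Map (tn F n)).hom.restrict (hle n))
  have hg : ∀ n, g n ≫ inc (N n) = inc (N (n + 1)) ≫ H0Map (tn F n) := fun n => rfl
  refine ⟨fun n => ModuleCat.of A (N n), g, fun n => @asIso _ _ _ _ _ (hi n), fun n => inc (N n),
    fun n => Module.Finite.iff_fg.2 (hfg n), fun n => Subtype.val_injective, fun n => ?_⟩
  show (RR U).map (g n) ≫ (RR U).map (inc (N n)) ≫ omegaHom (F.obj (op n)) =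
    ((RR U).map (inc (N (n + 1))) ≫ omegaHom (F.obj (op (n + 1)))) ≫ tn F n
  rw [← Functor.map_comp_assoc, hg, Functor.map_comp_assoc, omegaHom_natural, Category.assoc]

omit [IsNoetherianRing A] in
/-- A model of a module killed by an ideal is killed by it. -/
theorem smul_eq_zero_of_killedBy {E : (↑U : Scheme.{u}).Modules} {J : Ideal A} (hE : Formal.KilledBy J E)
    {M : ModuleCat.{u} A} (j : M ⟶ H0 E) (hj : Function.Injective j.hom) (a : A) (ha : a ∈ J) (x : M) :
    a • x = 0 := by
  refine hj ((map_smul j.hom a x).trans (Eq.trans ?_ (map_zero j.hom).symm))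
  refine (FormAlg.hhMap_smulMod (F := E) a 0 (j.hom x)).symm.trans ?_
  rw [hE a ha]
  exact FormAlg.hhMap_zero 0 _

/-- The comparison `M/I^{n+1}M → M'` becomes an isomorphism on the open. -/
theorem isIso_RR_bar (hF : Formal.IsCohFormal I F) (n : ℕ) {M M' : ModuleCat.{u} A}
    (c : (RR U).obj M ≅ F.obj (op (n + 1))) (c' : (RR U).obj M' ≅ F.obj (op n)) (g : M ⟶ M')
    (h : (RR U).map g ≫ c'.hom = c.hom ≫ tn F n)
    (gb : ModuleCat.of A (M ⧸ (I ^ (n + 1) • ⊤ : Submodule A M)) ⟶ M')
    (hgb : ModuleCat.ofHom (I ^ (n + 1) • ⊤ : Submodule A M).mkQ ≫ gb = g) :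
    IsIso ((RR U).map gb) := by
  let q : M ⟶ ModuleCat.of A (M ⧸ (I ^ (n + 1) • ⊤ : Submodule A M)) :=
    ModuleCat.ofHom (I ^ (n + 1) • ⊤ : Submodule A M).mkQ
  haveI : Epi q := (ModuleCat.epi_iff_surjective _).2 (Submodule.mkQ_surjective _)
  haveI : Epi ((RR U).map q) := Functor.map_epi _ q
  obtain ⟨v, hv⟩ := exists_desc hF n (c.inv ≫ (RR U).map q) fun a ha => by
    have h0 : a • 𝟙 (ModuleCat.of A (M ⧸ (I ^ (n + 1) • ⊤ : Submodule A M))) = 0 :=
      ModuleCat.hom_ext (LinearMap.ext fun z => by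
        obtain ⟨z, rfl⟩ := Submodule.mkQ_surjective _ z
        exact (map_smul (I ^ (n + 1) • ⊤ : Submodule A M).mkQ a z).symm.trans
          ((Submodule.Quotient.mk_eq_zero _).2 (Submodule.smul_mem_smul ha Submodule.mem_top)))
    rw [W7Cech.smulMod_natural, ← RR_map_smul, h0, Functor.map_zero, comp_zero]
  have h1 : (RR U).map g ≫ c'.hom ≫ v = (RR U).map q := by
    rw [← Category.assoc, h, Category.assoc, hv, Iso.hom_inv_id_assoc]
  have h2 : (RR U).map q ≫ (RR U).map gb = (RR U).map g := by rw [← Functor.map_comp]; exact congrArg _ hgb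
  haveI : Epi ((RR U).map g) := by
    rw [← Iso.eq_comp_inv] at h
    rw [h]
    haveI := W7Exist.epi_tn hF n
    infer_instance
  refine ⟨c'.hom ≫ v, ?_, ?_⟩
  · rw [← cancel_epi ((RR U).map q), ← Category.assoc, h2, h1, Category.comp_id]
  · rw [← cancel_epi ((RR U).map g), ← Category.assoc, h1, h2, Category.comp_id]

/-- Kernel and cokernel of a map becoming iso on the punctured spectrum are torsion. -/
theorem torsion_of_isIso (J : Ideal A) {M M' : ModuleCat.{u} A} (f : M ⟶ M')
    (h : IsIso ((RR (LocCoh.puncturedOpen A J)).map f)) :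
    (∀ x : M, f.hom x = 0 → ∃ m : ℕ, ∀ a ∈ J ^ m, a • x = 0) ∧
      ∀ y : M', ∃ m : ℕ, ∀ a ∈ J ^ m, a • y ∈ LinearMap.range f.hom := by
  let W := LocCoh.puncturedOpen A J
  haveI := h
  constructor
  · intro x hx
    let K : ModuleCat.{u} A := ModuleCat.of A (LinearMap.ker f.hom)
    let i : K ⟶ M := inc (LinearMap.ker f.hom)
    haveI : Mono i := (ModuleCat.mono_iff_injective _).2 Subtype.val_injective
    haveI : Mono ((RR W).map i) := Functor.map_mono _ i
    have h0 : (RR W).map i = 0 := by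
      rw [← cancel_mono ((RR W).map f), ← Functor.map_comp,
        show i ≫ f = 0 from ModuleCat.hom_ext (LinearMap.ext fun z => z.2), Functor.map_zero, zero_comp]
    obtain ⟨m, hm⟩ := torsion_of_isZero J (IsZero.of_mono_eq_zero _ h0) (⟨x, hx⟩ : LinearMap.ker f.hom)
    exact ⟨m, fun a ha => congrArg Subtype.val (hm a ha)⟩
  · intro y
    have hz := isZero_RR_quot W (LinearMap.range f.hom) (isIso_inc_range W f h)
    obtain ⟨m, hm⟩ := torsion_of_isZero J hz ((LinearMap.range f.hom).mkQ y)
    exact ⟨m, fun a ha => (Submodule.Quotient.mk_eq_zero _).1 ((map_smul _ a y).trans (hm a ha))⟩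

end Groth.Agent.FormPunct
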