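import Groth.Agent.FormAlg.OpenModel
import Groth.Agent.PunctArt.Main
import Groth.Agent.QC.Extend
import Groth.Agent.QC.FiniteType
import Groth.Agent.W7Exist.System

/-!
Finite models of coherent formal modules on punctured spectra.
-/

set_option autoImplicit false
set_option maxHeartbeats 1000000
set_option linter.style.haveILetI false
set_option backward.isDefEq.respectTransparency false
set_option backward.isDefEq.respectTransparency.types false

universe u

open CategoryTheory CategoryTheory.Limits AlgebraicGeometry TopologicalSpace Opposite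
open Groth.Agent.PunctArt (RR)
open Groth.Agent.FormAlg (H0 H0Map omegaHom omegaHom_natural isIso_omegaHom RR_map_smul)

noncomputable section

namespace Groth.Agent.FormPunct

/-- Global sections of a coherent module on an affine scheme are finite. -/
lemma finite_gamma {A : CommRingCat.{u}} {M : (Spec A).Modules} (hM : Coh.IsCoh M) :
    Module.Finite A ((moduleSpecΓFunctor (R := A)).obj M) := by
  let N := (moduleSpecΓFunctor (R := A)).obj M
  haveI : M.IsQuasicoherent := hM.1
  haveI : Module.Finite Γ(Spec A, ⊤) Γ(M, ⊤) := QC.finite_sections (isAffineOpen_top (Spec A)) hM.2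
  let e : Γ(Spec A, ⊤) ≃+* A := (Scheme.ΓSpecIso A).commRingCatIsoToRingEquiv
  haveI : RingHomInvPair (e : Γ(Spec A, ⊤) →+* A) (e.symm : A →+* Γ(Spec A, ⊤)) := RingHomInvPair.of_ringEquiv e
  let l : Γ(M, ⊤) →ₛₗ[(e : Γ(Spec A, ⊤) →+* A)] N :=
    { toFun := fun s => s
      map_add' := fun _ _ => rfl
      map_smul' := fun c s => by
        show c • s = e.symm (e c) • (show Γ(M, ⊤) from s)
        rw [e.symm_apply_apply] }
  haveI : RingHomSurjective (e : Γ(Spec A, ⊤) →+* A) := ⟨e.surjective⟩
  exact Module.Finite.of_surjective l fun s => ⟨s, rfl⟩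

variable {A : Type u} [CommRing A] (U : (Spec (CommRingCat.of A)).Opens)

/-- The inclusion of a submodule, in `ModuleCat`. -/
abbrev inc {M : ModuleCat.{u} A} (N : Submodule A M) : ModuleCat.of A N ⟶ M := ModuleCat.ofHom N.subtype

instance {M N : ModuleCat.{u} A} (f : M ⟶ N) [Epi f] : Epi ((RR U).map f) := Functor.map_epi _ f

/-- A map whose range is `N` becomes iso only if the inclusion of `N` does. -/
theorem isIso_inc_range {M N : ModuleCat.{u} A} (g : M ⟶ N) (hg : IsIso ((RR U).map g)) :
    IsIso ((RR U).map (inc (LinearMap.range g.hom))) := by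
  let p : M ⟶ ModuleCat.of A (LinearMap.range g.hom) := ModuleCat.ofHom g.hom.rangeRestrict
  haveI : Epi p := (ModuleCat.epi_iff_surjective _).2 g.hom.surjective_rangeRestrict
  have e : g = p ≫ inc (LinearMap.range g.hom) := rfl
  haveI := hg
  rw [e, Functor.map_comp] at hg
  haveI : Mono ((RR U).map p) := mono_of_mono _ ((RR U).map (inc (LinearMap.range g.hom)))
  haveI : IsIso ((RR U).map p) := isIso_of_mono_of_epi _
  exact IsIso.of_isIso_comp_left ((RR U).map p) _

/-- If the inclusion of a submodule becomes iso, the quotient becomes zero. -/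
theorem isZero_RR_quot {M : ModuleCat.{u} A} (N : Submodule A M) (h : IsIso ((RR U).map (inc N))) :
    IsZero ((RR U).obj (ModuleCat.of A (M ⧸ N))) := by
  let q : M ⟶ ModuleCat.of A (M ⧸ N) := ModuleCat.ofHom N.mkQ
  haveI : Epi q := (ModuleCat.epi_iff_surjective _).2 N.mkQ_surjective
  have h0 : inc N ≫ q = 0 := ModuleCat.hom_ext (LinearMap.ext fun x => (Submodule.Quotient.mk_eq_zero N).2 x.2)
  have h1 : (RR U).map q = 0 := by
    rw [← cancel_epi ((RR U).map (inc N)), ← Functor.map_comp, h0, Functor.map_zero, comp_zero]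
  exact IsZero.of_epi_eq_zero _ h1

/-- Pulling back a generating submodule along a map. -/
theorem isIso_inc_inf_comap {M M' : ModuleCat.{u} A} (f : M ⟶ M') (N : Submodule A M) (N' : Submodule A M')
    (hN : IsIso ((RR U).map (inc N))) (hN' : IsIso ((RR U).map (inc N'))) :
    IsIso ((RR U).map (inc (N ⊓ N'.comap f.hom))) := by
  let K := N ⊓ N'.comap f.hom
  let i : ModuleCat.of A K ⟶ ModuleCat.of A N := ModuleCat.ofHom (Submodule.inclusion (inf_le_left : K ≤ N))
  let h : ModuleCat.of A N ⟶ ModuleCat.of A (M' ⧸ N') := inc N ≫ f ≫ ModuleCat.ofHom N'.mkQ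
  have hih : i ≫ h = 0 := ModuleCat.hom_ext (LinearMap.ext fun x => (Submodule.Quotient.mk_eq_zero N').2 x.2.2)
  let S := ShortComplex.mk i h hih
  have hS : S.Exact := by
    rw [ShortComplex.moduleCat_exact_iff]
    intro (x : N) hx
    exact ⟨⟨x.1, x.2, (Submodule.Quotient.mk_eq_zero N').1 hx⟩, Subtype.ext rfl⟩
  haveI : (RR U).Additive := PunctArt.additive_RR U
  haveI : (RR U).PreservesHomology := Functor.preservesHomologyOfExact _
  haveI : Epi ((RR U).map i) := ShortComplex.Exact.epi_f (S := S.map (RR U)) (hS.map (RR U))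
    ((isZero_RR_quot U N' hN').eq_of_tgt _ _)
  haveI : Mono i := (ModuleCat.mono_iff_injective _).2 (Submodule.inclusion_injective (inf_le_left : K ≤ N))
  haveI : IsIso ((RR U).map i) := isIso_of_mono_of_epi _
  haveI := hN
  rw [show inc K = i ≫ inc N from rfl, Functor.map_comp]
  infer_instance

variable [IsNoetherianRing A]

/-- A coherent module on an open receives a finite module. -/
theorem exists_finite_map (E : (↑U : Scheme.{u}).Modules) (hE : Coh.IsCoh E) :
    ∃ (M : ModuleCat.{u} A) (_ : Module.Finite A M) (γ : M ⟶ H0 E), IsIso ((RR U).map γ) := by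
  haveI : E.IsQuasicoherent := hE.1
  let P := (Scheme.Modules.pushforward U.ι).obj E
  haveI : P.IsQuasicoherent := QC.isQCoh_pushforward U.ι
  let c : P.restrict U.ι ≅ E := (Scheme.Modules.restrictFunctorAdjCounitIso U.ι).app E
  haveI : (P.restrict U.ι).IsQuasicoherent := QC.isQCoh_restrict U.ι (by assumption)
  obtain ⟨G, i, e, hi, hGq, hGft, he⟩ := QC.exists_ft_extension (F := P)
    (fun x => ⟨⊤, trivial, inferInstance⟩) U (P.restrict U.ι) (𝟙 _)
    (QC.isFT_of_epi c.inv hE.2)
  have hR : IsIso ((Scheme.Modules.restrictFunctor U.ι).map i) := by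
    rw [← he, Category.comp_id]
    infer_instance
  haveI : G.IsQuasicoherent := hGq
  haveI : IsIso (Scheme.Modules.fromTildeΓ (R := CommRingCat.of A) G) :=
    Scheme.Modules.isIso_fromTildeΓ_of_isQuasicoherent (R := CommRingCat.of A) G
  let γ : (moduleSpecΓFunctor (R := CommRingCat.of A)).obj G ⟶ H0 E :=
    (moduleSpecΓFunctor (R := CommRingCat.of A)).map i ≫ (W7Cech.gsH0L A E).toModuleIso.hom
  have hγ : (RR U).map γ ≫ omegaHom E =
      ((Scheme.Modules.restrictFunctor U.ι).map (Scheme.Modules.fromTildeΓ (R := CommRingCat.of A) G) ≫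
        (Scheme.Modules.restrictFunctor U.ι).map i) ≫ c.hom := by
    have h1 : γ ≫ (W7Cech.gsH0L A E).toModuleIso.inv = (moduleSpecΓFunctor (R := CommRingCat.of A)).map i :=
      (Category.assoc _ _ _).trans ((congrArg (_ ≫ ·) (Iso.hom_inv_id _)).trans (Category.comp_id _))
    have h2 : (Scheme.Modules.restrictFunctor U.ι).map ((tilde.functor (CommRingCat.of A)).map
          ((moduleSpecΓFunctor (R := CommRingCat.of A)).map i)) ≫
        (Scheme.Modules.restrictFunctor U.ι).map (Scheme.Modules.fromTildeΓ (R := CommRingCat.of A) P) =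
      (Scheme.Modules.restrictFunctor U.ι).map (Scheme.Modules.fromTildeΓ (R := CommRingCat.of A) G) ≫
        (Scheme.Modules.restrictFunctor U.ι).map i := by
      rw [← Functor.map_comp, ← Functor.map_comp]
      exact congrArg _ ((tilde.adjunction (R := CommRingCat.of A)).counit.naturality i)
    unfold omegaHom
    rw [← Functor.map_comp_assoc, h1]
    refine (Category.assoc _ _ _).symm.trans ?_
    exact congrArg (· ≫ c.hom) h2
  have hom' : IsIso (omegaHom E) := isIso_omegaHom hE.1
  have hiso : IsIso ((Scheme.Modules.restrictFunctor U.ι).map (Scheme.Modules.fromTildeΓ (R := CommRingCat.of A) G)) :=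
    Functor.map_isIso _ _
  have hγ' : IsIso ((RR U).map γ) :=
    @IsIso.of_isIso_comp_right _ _ _ _ _ ((RR U).map γ) (omegaHom E) hom'
      (hγ ▸ @IsIso.comp_isIso _ _ _ _ _ _ _ (@IsIso.comp_isIso _ _ _ _ _ _ _ hiso hR) c.isIso_hom)
  exact ⟨_, finite_gamma (A := CommRingCat.of A) ⟨hGq, hGft⟩, γ, hγ'⟩

/-- A coherent module on an open has a finite model. -/
theorem exists_fg_model (E : (↑U : Scheme.{u}).Modules) (hE : Coh.IsCoh E) :
    ∃ N : Submodule A (H0 E), N.FG ∧ IsIso ((RR U).map (inc N)) := by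
  obtain ⟨M, hM, γ, hγ⟩ := exists_finite_map U E hE
  refine ⟨LinearMap.range γ.hom, ?_, isIso_inc_range U γ hγ⟩
  rw [LinearMap.range_eq_map]
  exact hM.fg_top.map _

variable (J : Ideal A)

/-- A module becoming zero on the punctured spectrum is torsion. -/
theorem torsion_of_isZero {T : ModuleCat.{u} A} (h : IsZero ((RR (LocCoh.puncturedOpen A J)).obj T)) (t : T) :
    ∃ m : ℕ, ∀ a ∈ J ^ m, a • t = 0 := by
  refine (PunctArt.mem_torsion_of_psi_eq_zero J T ?_ :)
  generalize PunctArt.psi (LocCoh.puncturedOpen A J) T t = x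
  have h0 : (RR (LocCoh.puncturedOpen A J)).map (0 : T ⟶ T) = 𝟙 _ := h.eq_of_src _ _
  calc x = CohFinite.hhMap A (𝟙 _) 0 x := (CohFinite.hhMap_id A _ 0 x).symm
    _ = PunctArt.mapH (0 : T ⟶ T) 0 x := by rw [PunctArt.mapH, h0]
    _ = 0 := PunctArt.mapH_zero 0 x

end Groth.Agent.FormPunct
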